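import Cfsg.Agent.H230.Ccp.Tool
import Cfsg.Agent.H497.Stein.HSMc
import Cfsg.Agent.H345.IRowCo3
import Cfsg.Agent.BpSpor.CoThreeFive

/-!
# S4114: the row `Co3` (helper230)

`5`: `PSU₃(5) ≤ Co3` has index prime to 5; `7`, `11`, `23` by Burnside; so `|α|` has the prime divisors `2` and `3`, and
the centralizers of the involutions `2.Sp₆(2)` and `2 × M₁₂` exclude this.
-/

set_option autoImplicit false

namespace Cfsg.Agent.H230.Ccp.Co3

open Subgroup Cfsg Cfsg.Agent.H520 Cfsg.Agent.H497.Stein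
open Cfsg.Agent.H792.SpU35 (card_Co3 exists_tri_mcl)
open Cfsg.Agent.SporRec.Co3.Chain (G3)
open Cfsg.Agent.SporRec.Co3.Ident (Z)
open Cfsg.Agent.CpAutCo3.MTw (ww cls)
open Cfsg.Agent.H839.Rad (RadFree)
open Cfsg.Agent.H345.IRowCo (radFree_Z radFree_ww equiv_cent finG3)

universe u

theorem moved_five : Moved 5 Spor.Co3 := by
  have : Finite Spor.Co3 := Nat.finite_of_card_ne_zero (by rw [card_Co3]; norm_num)
  obtain ⟨x, T⟩ := exists_tri_mcl
  exact Tri.moved T Spor.Co3 (m := 3966133248) (by rw [card_Co3]; norm_num) (by norm_num)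
    fun g _ h1 _ => ⟨g.2, h1⟩

theorem radFree (t : G3) (ht : orderOf t = 2) : RadFree 3 ↥(centralizer ({t} : Set G3)) := by
  have := finG3
  have ht2 : t * t = 1 := by rw [← pow_two, ← ht, pow_orderOf_eq_one]
  have ht1 : t ≠ 1 := fun h => by rw [h, orderOf_one] at ht; norm_num at ht
  rcases cls ht2 ht1 with ⟨g, rfl⟩ | ⟨g, rfl⟩
  · obtain ⟨e⟩ := equiv_cent g Z
    exact radFree_Z.congr Nat.prime_three e.symm
  · obtain ⟨e⟩ := equiv_cent g ww
    exact radFree_ww.congr Nat.prime_three e.symm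

theorem row_G3 : Row G3 := by
  have := finG3
  have hI : Cfsg.Spor.IsoCo3 G3 := ⟨Cfsg.Agent.SporRec.Co3.Model.equivCo3⟩
  have D := BpSpor.Row.dat_co3 hI
  have hna := not_comm_of_card D.simple (by rw [D.card]; norm_num)
  have := D.simple
  refine row_of_two (p := 3) Nat.prime_three (by rw [D.card]; norm_num) (by rw [D.card]; norm_num)
    (CpAutCoThreeFive.autInner 2) D.inn (by norm_num) (fun q hq hq2 hq3 hqd => ?_) radFree
  by_cases h : q ^ 2 ∣ 495766656000
  · obtain ⟨k, hk, h2k⟩ := OrdDiv.exists_pair (l := [(2, 10), (3, 7), (5, 3), (7, 1), (11, 1), (23, 1)])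
      (by decide +kernel) hq (by norm_num : 1 ≤ 2) h
    simp only [List.mem_cons, List.not_mem_nil, or_false, Prod.mk.injEq] at hk
    rcases hk with ⟨rfl, rfl⟩ | ⟨rfl, rfl⟩ | ⟨rfl, rfl⟩ | ⟨rfl, rfl⟩ | ⟨rfl, rfl⟩ | ⟨rfl, rfl⟩
    · exact absurd rfl hq2
    · exact absurd rfl hq3
    · exact moved_five.congr Cfsg.Agent.SporRec.Co3.Model.equivCo3
    all_goals exact absurd h2k (by norm_num)
  · exact moved_of_not_sq hna hq (by rw [D.card]; exact h)

/-- **S4114, the row `Co3`.** -/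
theorem row_Co3 {G : Type u} [Group G] [Finite G] (h : Cfsg.Spor.IsoCo3 G) : Cfsg.Agent.H520.Row G := by
  obtain ⟨e⟩ := h
  exact Row.congr (e.trans Cfsg.Agent.SporRec.Co3.Model.equivCo3.symm) row_G3

end Cfsg.Agent.H230.Ccp.Co3
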