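import Cfsg.Agent.H497.Stein.Eng
import Cfsg.Agent.H839.Rad.Base

/-!
# S4114: tools for the sporadic rows (helper230)

* `Cfg.mem_rad` : for `t, y ∈ ⟨α⟩` (inner), `t ≠ 1`, the element `y` lies in the solvable radical of `C_G(t)`;
* `not_both` : if `C_G(t)` has no elements of order `p` in its radical for the elements `t` of order `q`, then
  not both of `p`, `q` divide `|α|`;
* `row_of_two` : the row of a group with `π(α) ⊆ {2, p}`.
-/

set_option autoImplicit false

namespace Cfsg.Agent.H230.Ccp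

open Subgroup Cfsg Cfsg.Agent.H520 Cfsg.Agent.H497.Stein
open Cfsg.Agent.H839.Rad (RadFree)
open Cfsg.Agent.H459.Rad Cfsg.Agent.SignalizersComponents.ComponentExists
open Cfsg.Agent.CpAut (AutInner)

universe u

variable {G : Type u} [Group G]

/-- `m⁻¹ αᵏ(m) ∈ [M, α]` -/
theorem pow_mem_cM {α : MulAut G} {M : Subgroup G} (hM : ∀ m ∈ M, α m ∈ M) (k : ℕ) :
    ∀ m ∈ M, (α ^ k : MulAut G) m ∈ M ∧ m⁻¹ * (α ^ k : MulAut G) m ∈ cM α M := by
  induction k with
  | zero => intro m hm; simpa using hm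
  | succ k ih =>
    intro m hm
    obtain ⟨h1, h2⟩ := ih m hm
    have h3 : (α ^ (k + 1) : MulAut G) m = α ((α ^ k : MulAut G) m) := by rw [pow_succ', MulAut.mul_apply]
    rw [h3]
    refine ⟨hM _ h1, ?_⟩
    have h4 := mem_cM α h1
    have h5 : m⁻¹ * α ((α ^ k : MulAut G) m) =
        (m⁻¹ * (α ^ k : MulAut G) m) * (((α ^ k : MulAut G) m)⁻¹ * α ((α ^ k : MulAut G) m)) := by group
    rw [h5]
    exact mul_mem h2 h4

/-- an element of `⟨α⟩` (inner) lies in the solvable radical of every proper invariant subgroup containing it -/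
theorem Cfg.mem_rad_of_inv [Finite G] {α : MulAut G} (h : Cfg α) {M : Subgroup G} (hM : M ≠ ⊤)
    (hMi : ∀ m ∈ M, α m ∈ M) {y : G} (hy : MulAut.conj y ∈ zpowers α) (hyM : y ∈ M) :
    (⟨y, hyM⟩ : ↥M) ∈ solvableRadical ↥M := by
  have h1 : Group.IsSolvable (cG (resA α M hMi)) := (solvable_cM_iff α M hMi).1 (h.min M hM hMi)
  have h2 : cG (resA α M hMi) ≤ solvableRadical ↥M := le_rad (cG_normal _) h1
  refine mem_rad_of_commutator fun g => h2 ?_
  obtain ⟨k, hk⟩ := (isOfFinOrder_of_finite α).mem_powers_iff_mem_zpowers.2 hy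
  have hk' : α ^ k = MulAut.conj y := hk
  obtain ⟨-, h3⟩ := pow_mem_cM (α := α) hMi k g.1 g.2
  rw [hk', ← map_cG_resA α M hMi] at h3
  obtain ⟨c, hc, hc2⟩ := h3
  have h4 : c = g⁻¹ * ((⟨y, hyM⟩ : ↥M) * g * (⟨y, hyM⟩ : ↥M)⁻¹) := Subtype.ext hc2
  rw [← h4]
  exact hc

theorem fixA_conj [Finite G] (t : G) : fixA (MulAut.conj t) = centralizer ({t} : Set G) := by
  ext g
  rw [mem_fixA, mem_centralizer_singleton_iff, MulAut.conj_apply, mul_inv_eq_iff_eq_mul]
  exact eq_comm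

/-- for `t, y ∈ ⟨α⟩`, `y` lies in the solvable radical of `C_G(t)` -/
theorem Cfg.mem_rad [Finite G] {α : MulAut G} (h : Cfg α) {t : G} (ht : MulAut.conj t ∈ zpowers α) (ht1 : t ≠ 1)
    {y : G} (hy : MulAut.conj y ∈ zpowers α) :
    ∃ hy' : y ∈ centralizer ({t} : Set G), (⟨y, hy'⟩ : ↥(centralizer ({t} : Set G))) ∈ solvableRadical _ := by
  have hinj : Function.Injective (MulAut.conj : G →* MulAut G) := fun a b hab => conj_inj h.center_bot hab
  have h1 : MulAut.conj t ≠ 1 := fun h2 => ht1 (hinj (by rw [h2, map_one]))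
  have h2 : y ∈ centralizer ({t} : Set G) := by
    rw [mem_centralizer_singleton_iff]
    apply hinj
    rw [map_mul, map_mul]
    exact (Cfg.comm_zpowers hy ht).eq
  refine ⟨h2, ?_⟩
  refine Cfg.mem_rad_of_inv h ?_ ?_ hy h2
  · rw [← fixA_conj]
    exact Cfg.fixA_ne_top h1
  · rw [← fixA_conj]
    exact Cfg.fixA_inv (Cfg.comm_zpowers ht (mem_zpowers α))

/-- an inner automorphism of prime order in `⟨α⟩` -/
theorem Cfg.exists_inn [Finite G] {α : MulAut G} (h : Cfg α) {p : ℕ} (hp : p.Prime) (hi : AutInner p G)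
    (hd : p ∣ orderOf α) : ∃ y : G, orderOf y = p ∧ MulAut.conj y ∈ zpowers α := by
  obtain ⟨x, hx, hxo⟩ := exists_prime_order hp hd
  obtain ⟨y, rfl⟩ := hi x hxo
  have hinj : Function.Injective (MulAut.conj : G →* MulAut G) := fun a b hab => conj_inj h.center_bot hab
  exact ⟨y, by rw [← hxo]; exact (orderOf_injective _ hinj y).symm, hx⟩

/-- not both of `p`, `q` divide `|α|` -/
theorem not_both [Finite G] {α : MulAut G} (h : Cfg α) {p q : ℕ} (hp : p.Prime) (hq : q.Prime) (hip : AutInner p G)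
    (hiq : AutInner q G) (hR : ∀ t : G, orderOf t = q → RadFree p ↥(centralizer ({t} : Set G)))
    (hpd : p ∣ orderOf α) : ¬ q ∣ orderOf α := by
  intro hqd
  obtain ⟨y, hyo, hy⟩ := Cfg.exists_inn h hp hip hpd
  obtain ⟨t, hto, ht⟩ := Cfg.exists_inn h hq hiq hqd
  obtain ⟨h1, h2⟩ := Cfg.mem_rad h ht (fun h3 => by
    rw [h3, orderOf_one] at hto
    exact hq.one_lt.ne hto) hy
  exact hR t hto ⟨y, h1⟩ (by rw [Subgroup.orderOf_mk, hyo]) h2

/-- **The row of a group** all of whose elements of odd prime order `≠ p` are moved, if `C_G(t)` has no elements of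
order `p` in its radical for the involutions `t`. -/
theorem row_of_two [Finite G] {p : ℕ} (hp : p.Prime) (h2 : 2 ∣ Nat.card G) (hpG : p ∣ Nat.card G)
    (hi2 : AutInner 2 G) (hi : Cfsg.Agent.BpSpor.Inn.OddInn G) (hp2 : p ≠ 2)
    (hm : ∀ q : ℕ, q.Prime → q ≠ 2 → q ≠ p → q ∣ Nat.card G → Moved q G)
    (hR : ∀ t : G, orderOf t = 2 → RadFree p ↥(centralizer ({t} : Set G))) : Row G := by
  intro α h
  have key : ∀ q : ℕ, q.Prime → q ≠ 2 → q ≠ p → ¬ q ∣ orderOf α := by
    intro q hq hq2 hqp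
    by_cases hqG : q ∣ Nat.card G
    · exact not_dvd_of_moved h hq (hi q hq hq2) (hm q hq hq2 hqp hqG)
    · refine not_dvd_of_moved h hq (hi q hq hq2) (fun y hy => absurd ?_ hqG)
      rw [← hy]
      exact orderOf_dvd_natCard y
  obtain ⟨q, hq, hqp, hd⟩ := h.exists_prime_ne hp hpG
  obtain ⟨r, hr, hr2, hrd⟩ := h.exists_prime_ne Nat.prime_two h2
  have e1 : q = 2 := by
    by_contra hq2
    exact key q hq hq2 hqp hd
  have e2 : r = p := by
    by_contra hrp
    exact key r hr hr2 hrp hrd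
  rw [e1] at hd
  rw [e2] at hrd
  exact not_both h hp Nat.prime_two (hi p hp hp2) hi2 hR hrd hd

end Cfsg.Agent.H230.Ccp
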